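import Groth.Agent.SGAHom20.Hull

/-!
# Quasi-compact dominant homomorphisms of groups over a field
-/

set_option backward.isDefEq.respectTransparency false
set_option backward.isDefEq.respectTransparency.types false

set_option linter.unusedSimpArgs false

universe u

open CategoryTheory AlgebraicGeometry MonoidalCategory CartesianMonoidalCategory MonObj GrpObj
open Groth.Agent.GrpSchLib (IsMaxPt UniComp hull bc bcProj exists_isMaxPt left_comp_apply)
open scoped CategoryTheory.Obj

noncomputable section

namespace Groth.Agent.SGAHom20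

theorem mem_range_of_isMaxPt {T X : Scheme.{u}} (f : T ⟶ X) [QuasiCompact f] (hf : DenseRange f) {c : X}
    (hc : IsMaxPt c) : c ∈ Set.range f := by
  obtain ⟨t, ht⟩ := exists_specializes_of_mem_closure f (y := c) (hf c)
  exact ⟨t, hc _ ht⟩

/-- Flatness descends along a faithfully flat second factor. -/
theorem flat_of_comp_faithfullyFlat {C A B : Type u} [CommRing C] [CommRing A] [CommRing B]
    (φ : C →+* A) (ψ : A →+* B) (hff : ψ.FaithfullyFlat) (h : (ψ.comp φ).Flat) : φ.Flat := by
  algebraize [φ, ψ, ψ.comp φ]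
  refine Module.Flat.iff_lTensor_injective'.2 fun I => ?_
  rw [injective_iff_map_eq_zero]
  intro x hx
  let f₁ : A →ₗ[C] B := (IsScalarTower.toAlgHom C A B).toLinearMap
  have h1 : f₁.rTensor I x = 0 := by
    refine Module.Flat.lTensor_preserves_injective_linearMap I.subtype I.subtype_injective ?_
    rw [map_zero, ← LinearMap.comp_apply, LinearMap.lTensor_comp_rTensor, ← LinearMap.rTensor_comp_lTensor,
      LinearMap.comp_apply, hx, map_zero]
  have h3 : ((TensorProduct.AlgebraTensorModule.cancelBaseChange C A A B I).toLinearMap.restrictScalars C ∘ₗ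
      (TensorProduct.mk A B (TensorProduct C A I) 1).restrictScalars C) = f₁.rTensor I := by
    refine TensorProduct.ext' fun a i => ?_
    simp [f₁, Algebra.smul_def]
  rw [← h3] at h1
  exact Module.FaithfullyFlat.tensorProduct_mk_injective (A := A) (B := B) (TensorProduct C A I)
    (by simpa using h1)

/-- A morphism is flat if it becomes flat after composing with a flat surjection. -/
theorem flat_of_comp_surjective {U W V : Scheme.{u}} (m : W ⟶ U) (h : U ⟶ V) [Flat m] [Surjective m]
    [Flat (m ≫ h)] : Flat h := by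
  refine Flat.of_stalkMap h fun x => ?_
  obtain ⟨z, rfl⟩ := m.surjective x
  refine flat_of_comp_faithfullyFlat _ (m.stalkMap z).hom ?_ ?_
  · algebraize [(m.stalkMap z).hom]
    exact @Module.FaithfullyFlat.of_flat_of_isLocalHom _ _ _ _ _ _ _
      (Flat.stalkMap m z) (m.toLRSHom.prop z)
  · rw [← CommRingCat.hom_comp, ← Scheme.Hom.stalkMap_comp]
    exact Flat.stalkMap (m ≫ h) z

theorem flat_fromSpecResidueField_of_isMaxPt {X : Scheme.{u}} [IsReduced X] {c : X} (hc : IsMaxPt c) :
    Flat (X.fromSpecResidueField c) := by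
  have hmax : IsMax c := fun b hb => by
    rw [hc b hb]
  have : Ring.KrullDimLE 0 ↥(X.presheaf.stalk c) :=
    krullDimLE_of_coheight_le (n := 0) (Order.coheight_eq_zero.2 hmax).le
  have hF : IsField ↥(X.presheaf.stalk c) := Ring.KrullDimLE.isField_of_isReduced
  exact (Flat.iff_flat_stalkMap _).2 fun w =>
    .of_isField (by rw [Scheme.fromSpecResidueField_apply]; exact hF) _

variable {k : Type u} [Field k]

theorem isPullback_whiskerLeft (G : Over (Spec (CommRingCat.of k))) {A B : Over (Spec (CommRingCat.of k))} (q : A ⟶ B) :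
    IsPullback (G ◁ q).left (snd G A).left (snd G B).left q.left := by
  refine IsPullback.of_right (h₁₂ := (fst G B).left) (h₂₂ := B.hom) (v₁₃ := G.hom) ?_ ?_ ?_
  · have e : (G ◁ q).left ≫ (fst G B).left = (fst G A).left := by
      rw [← Over.comp_left, whiskerLeft_fst]
    rw [e, Over.w q]
    exact IsPullback.of_hasPullback G.hom _
  · rw [← Over.comp_left, whiskerLeft_snd, Over.comp_left]
  · exact IsPullback.of_hasPullback G.hom B.hom

variable {G H : Over (Spec (CommRingCat.of k))} [GrpObj G] [GrpObj H] (f : G ⟶ H) [IsMonHom f]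

set_option synthInstance.maxHeartbeats 400000 in
omit [GrpObj G] [IsMonHom f] in
/-- A quasi-compact dominant morphism whose image is closed under multiplication is surjective. -/
theorem surjective_of_denseRange_of_mul [QuasiCompact f.left] (hf : DenseRange f.left) (m : G ⊗ G ⟶ G)
    (hm : m ≫ f = (fst G G ≫ f) * (snd G G ≫ f)) : Surjective f.left := by
  refine ⟨fun y => ?_⟩
  obtain ⟨L, _, _, φ, y', hy'⟩ := exists_point y
  let F := Over.pullback (Spec.map (CommRingCat.ofHom φ))
  let f' : bc G φ ⟶ bc H φ := F.map f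
  have hsq := isPullback_bcMap f φ
  have : QuasiCompact f'.left := MorphismProperty.of_isPullback (P := @QuasiCompact) hsq ‹_›
  have := universallyOpen_bcProj H φ
  have hd : DenseRange f'.left := fun z => by
    have : z ∈ closure (bcProj H φ ⁻¹' Set.range f.left) := by
      rw [← (bcProj H φ).isOpenMap.preimage_closure_eq_closure_preimage (bcProj H φ).continuous]
      exact hf _
    refine closure_mono ?_ this
    rintro w ⟨t, ht⟩
    obtain ⟨s, -, hs⟩ := Scheme.exists_preimage_of_isPullback hsq t w ht
    exact ⟨s, hs⟩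
  obtain ⟨c, hc, -⟩ := exists_isMaxPt (η[bc H φ].left (pt₀ L))
  let τ := GrpSchLib.divIso y'
  obtain ⟨g₁, hg₁⟩ := mem_range_of_isMaxPt f'.left hd hc
  obtain ⟨g₂, hg₂⟩ := mem_range_of_isMaxPt f'.left hd (hc.map τ.hom.left.isOpenEmbedding.generalizingMap)
  obtain ⟨w, hw₁, hw₂⟩ := Scheme.Pullback.exists_preimage_pullback (f := (f' ≫ τ.hom).left) (g := f'.left) g₁ g₂
    (by rw [left_comp_apply, hg₁, hg₂])
  let W : Over (Spec (CommRingCat.of L)) := Over.mk (Limits.pullback.fst (f' ≫ τ.hom).left f'.left ≫ (bc G φ).hom)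
  let p₁ : W ⟶ bc G φ := Over.homMk (Limits.pullback.fst (f' ≫ τ.hom).left f'.left) rfl
  let p₂ : W ⟶ bc G φ := Over.homMk (Limits.pullback.snd (f' ≫ τ.hom).left f'.left) (by
    show _ = Limits.pullback.fst (f' ≫ τ.hom).left f'.left ≫ (bc G φ).hom
    conv_rhs => rw [← Over.w (f' ≫ τ.hom)]
    rw [Limits.pullback.condition_assoc, Over.w f'])
  have hp : p₁ ≫ f' ≫ τ.hom = p₂ ≫ f' := Over.OverMorphism.ext Limits.pullback.condition
  let u : W ⟶ bc G φ := lift p₂ p₁ ≫ Functor.LaxMonoidal.μ F G G ≫ F.map m
  have hmul : u ≫ f' = (p₂ ≫ f') * (p₁ ≫ f') := by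
    show (lift p₂ p₁ ≫ Functor.LaxMonoidal.μ F G G ≫ F.map m) ≫ F.map f = _
    rw [Category.assoc, Category.assoc, ← F.map_comp, hm, Functor.map_mul, F.map_comp, F.map_comp,
      MonObj.comp_mul, MonObj.comp_mul, Functor.Monoidal.μ_fst_assoc, Functor.Monoidal.μ_snd_assoc,
      lift_fst_assoc, lift_snd_assoc]
  have hu : u ≫ f' = toUnit W ≫ y' := by
    rw [hmul, ← hp, show τ.hom = (toUnit (bc H φ) ≫ y') * (𝟙 _)⁻¹ from rfl, MonObj.comp_mul,
      MonObj.comp_mul, GrpObj.comp_inv, GrpObj.comp_inv, Category.comp_id, ← Category.assoc f', comp_toUnit,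
      ← Category.assoc, comp_toUnit, inv_mul_cancel_right]
  refine ⟨bcProj G φ (u.left w), ?_⟩
  rw [← bc_map_apply, ← left_comp_apply, hu, GrpSchLib.apply_pointSection]
  exact hy'

/-- A quasi-compact dominant homomorphism is surjective. -/
theorem surjective_of_denseRange [QuasiCompact f.left] (hf : DenseRange f.left) : Surjective f.left :=
  surjective_of_denseRange_of_mul f hf μ[G] (by
    rw [IsMonHom.mul_hom, Hom.mul_def]
    congr 1)

/-- A surjective homomorphism to a reduced group is flat. -/
theorem flat_of_surjective [IsReduced H.left] [Surjective f.left] : Flat f.left := by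
  obtain ⟨c, hc, -⟩ := exists_isMaxPt (η[H].left (pt₀ k))
  let C : Over (Spec (CommRingCat.of k)) := Over.mk (H.left.fromSpecResidueField c ≫ H.hom)
  let i : C ⟶ H := Over.homMk (H.left.fromSpecResidueField c) rfl
  have : Flat i.left := flat_fromSpecResidueField_of_isMaxPt hc
  have : Flat G.hom := inferInstance
  have h1 : Flat (f ▷ H ≫ μ[H]).left := GrpSchLib.flat_whiskerRight_mul f
  have h2 : Flat (G ◁ i).left := MorphismProperty.of_isPullback (P := @Flat) (isPullback_whiskerLeft G i).flip ‹_›
  let U : Over (Spec (CommRingCat.of k)) := Over.mk (Limits.pullback.snd i.left f.left ≫ G.hom)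
  let v : U ⟶ G := Over.homMk (Limits.pullback.snd i.left f.left) rfl
  let w : U ⟶ C := Over.homMk (Limits.pullback.fst i.left f.left) (by
    show _ = Limits.pullback.snd i.left f.left ≫ G.hom
    conv_rhs => rw [← Over.w f]
    rw [← Limits.pullback.condition_assoc, Over.w i])
  have hwv : w ≫ i = v ≫ f := Over.OverMorphism.ext Limits.pullback.condition
  have : Flat w.left := by
    have : IsIntegral C.left := inferInstanceAs (IsIntegral (Spec (H.left.residueField c)))
    have : Subsingleton C.left := inferInstanceAs (Subsingleton (Spec (H.left.residueField c)))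
    infer_instance
  have h3 : Flat (G ◁ w).left := MorphismProperty.of_isPullback (P := @Flat) (isPullback_whiskerLeft G w).flip ‹_›
  obtain ⟨g, hg⟩ := f.left.surjective c
  obtain ⟨u, -, -⟩ := Scheme.Pullback.exists_preimage_pullback (f := i.left) (g := f.left)
    (IsLocalRing.closedPoint (H.left.residueField c)) g
    (by rw [hg]; exact H.left.fromSpecResidueField_apply c _)
  have : Nonempty U.left := ⟨u⟩
  let σ : G ⊗ U ≅ G ⊗ U :=
    { hom := lift (fst G U * (snd G U ≫ v)) (snd G U)
      inv := lift (fst G U * (snd G U ≫ v)⁻¹) (snd G U)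
      hom_inv_id := by
        apply CartesianMonoidalCategory.hom_ext
        · simp [MonObj.comp_mul, GrpObj.comp_inv]
        · simp
      inv_hom_id := by
        apply CartesianMonoidalCategory.hom_ext
        · simp [MonObj.comp_mul, GrpObj.comp_inv]
        · simp }
  let pr : G ⊗ U ⟶ G := σ.hom ≫ fst G U
  have : IsIso σ.hom.left := ((Over.forget _).mapIso σ).isIso_hom
  have : Flat (fst G U).left := MorphismProperty.pullback_fst (P := @Flat) G.hom U.hom inferInstance
  have : Surjective U.hom := ⟨fun y => ⟨u, @Subsingleton.elim (Spec (CommRingCat.of k)) inferInstance _ _⟩⟩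
  have : Surjective (fst G U).left := MorphismProperty.pullback_fst (P := @Surjective) G.hom U.hom inferInstance
  have : Flat pr.left := by rw [Over.comp_left]; infer_instance
  have : Surjective pr.left := by rw [Over.comp_left]; infer_instance
  have e : pr ≫ f = (G ◁ w) ≫ (G ◁ i) ≫ (f ▷ H) ≫ μ[H] := by
    simp only [pr, σ, lift_fst, MonObj.mul_comp, Category.assoc]
    rw [← hwv, ← Category.assoc (G ◁ w), ← MonoidalCategory.whiskerLeft_comp, ← Category.assoc (G ◁ (w ≫ i))]
    rw [Hom.mul_def]
    congr 1
    apply CartesianMonoidalCategory.hom_ext <;> simp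
  have : Flat (pr.left ≫ f.left) := by
    rw [← Over.comp_left, e, Over.comp_left, Over.comp_left]
    infer_instance
  exact flat_of_comp_surjective pr.left f.left

end Groth.Agent.SGAHom20
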