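import Groth.Agent.SGAHom20.Dominant
import Groth.Agent.GrpSchLib.MonoSubgroup
import Mathlib.AlgebraicGeometry.Morphisms.SchemeTheoreticallyDominant

/-!
# Schematic images of quasi-compact homomorphisms over a field
-/

set_option backward.isDefEq.respectTransparency false
set_option backward.isDefEq.respectTransparency.types false

universe u

open CategoryTheory AlgebraicGeometry MonoidalCategory CartesianMonoidalCategory MonObj GrpObj
open Groth.Agent.GrpSchLib (left_comp_apply)
open scoped CategoryTheory.Obj

noncomputable section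

namespace Groth.Agent.SGAHom20

theorem schDominant_toImage {X Y : Scheme.{u}} (f : X ⟶ Y) [QuasiCompact f] :
    IsSchemeTheoreticallyDominant f.toImage := by
  refine ⟨Scheme.IdealSheafData.ext (funext fun U => ?_)⟩
  rw [Scheme.IdealSheafData.ideal_bot, Pi.bot_apply, eq_bot_iff]
  refine (f.toImage.ideal_ker_le U).trans fun s hs => ?_
  rw [Ideal.mem_bot]
  refine TopCat.Presheaf.section_ext f.image.sheaf _ _ _ fun w hw => ?_
  refine Scheme.Hom.stalkFunctor_toImage_injective f w ?_
  erw [TopCat.Presheaf.stalkFunctor_map_germ_apply, TopCat.Presheaf.stalkFunctor_map_germ_apply]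
  exact congrArg _ ((RingHom.mem_ker.mp hs).trans (map_zero _).symm)

variable {S : Scheme.{u}}

/-- Factorisation through a closed immersion is tested after a schematically dominant morphism. -/
theorem exists_lift_of_schDominant {A B P G : Over S} (i : P ⟶ G) [IsClosedImmersion i.left] (D : A ⟶ B)
    [IsSchemeTheoreticallyDominant D.left] (x : B ⟶ G) (y : A ⟶ P) (h : y ≫ i = D ≫ x) :
    ∃ z : B ⟶ P, z ≫ i = x := by
  have hle : i.left.ker ≤ x.left.ker := by
    have h1 : i.left.ker ≤ (D.left ≫ x.left).ker := by
      rw [← Over.comp_left, ← h, Over.comp_left]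
      exact Scheme.Hom.le_ker_comp _ _
    rwa [Scheme.Hom.ker_comp, D.left.ker_eq_bot, Scheme.IdealSheafData.map_bot] at h1
  refine ⟨Over.homMk (IsClosedImmersion.lift i.left x.left hle) ?_, ?_⟩
  · rw [← Over.w i, ← Category.assoc, IsClosedImmersion.lift_fac, Over.w x]
  · exact Over.OverMorphism.ext (IsClosedImmersion.lift_fac _ _ _)

variable {k : Type u} [Field k] {H G : Over (Spec (CommRingCat.of k))} [GrpObj H] [GrpObj G]
  (f : H ⟶ G) [IsMonHom f] [QuasiCompact f.left]

/-- The schematic image of a quasi-compact homomorphism is a subgroup. -/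
theorem exists_image_subgroup :
    ∃ (H' : Over (Spec (CommRingCat.of k))) (_ : GrpObj H') (i : H' ⟶ G) (f' : H ⟶ H'),
      IsMonHom i ∧ IsMonHom f' ∧ f' ≫ i = f ∧ IsClosedImmersion i.left ∧
      f'.left.ker = ⊥ ∧ QuasiCompact f'.left ∧ Surjective f'.left := by
  let P : Over (Spec (CommRingCat.of k)) := Over.mk (f.left.imageι ≫ G.hom)
  let i : P ⟶ G := Over.homMk f.left.imageι rfl
  let f' : H ⟶ P := Over.homMk f.left.toImage (by
    show f.left.toImage ≫ f.left.imageι ≫ G.hom = H.hom
    rw [Scheme.Hom.toImage_imageι_assoc, Over.w f])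
  have hf' : f' ≫ i = f := Over.OverMorphism.ext f.left.toImage_imageι
  have : IsClosedImmersion i.left := inferInstanceAs (IsClosedImmersion f.left.imageι)
  have : QuasiCompact f'.left := inferInstanceAs (QuasiCompact f.left.toImage)
  have : IsSchemeTheoreticallyDominant f'.left := schDominant_toImage f.left
  have hwhisk : ∀ (W : Over (Spec (CommRingCat.of k))),
      IsSchemeTheoreticallyDominant (W ◁ f').left ∧ QuasiCompact (W ◁ f').left := fun W => by
    have hsq := isPullback_whiskerLeft W f'
    have : Flat W.hom := inferInstance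
    have : Flat (snd W P).left := MorphismProperty.pullback_snd (P := @Flat) W.hom P.hom ‹_›
    exact ⟨IsSchemeTheoreticallyDominant.of_isPullback hsq.flip,
      MorphismProperty.of_isPullback (P := @QuasiCompact) hsq.flip ‹_›⟩
  have := (hwhisk H).1
  have : IsSchemeTheoreticallyDominant (f' ▷ P).left := by
    have := (hwhisk P).1
    have : IsIso (β_ H P).hom.left := ((Over.forget _).mapIso (β_ H P)).isIso_hom
    have : IsIso (β_ P P).hom.left := ((Over.forget _).mapIso (β_ P P)).isIso_hom
    rw [show f' ▷ P = (β_ H P).hom ≫ (P ◁ f') ≫ (β_ P P).hom by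
      apply CartesianMonoidalCategory.hom_ext <;> simp]
    rw [Over.comp_left, Over.comp_left]
    infer_instance
  let D := (H ◁ f') ≫ (f' ▷ P)
  have : IsSchemeTheoreticallyDominant D.left := by
    show IsSchemeTheoreticallyDominant ((H ◁ f') ≫ (f' ▷ P)).left
    rw [Over.comp_left]
    infer_instance
  have : Mono i.left := inferInstanceAs (Mono f.left.imageι)
  have : Mono i := (Over.forget _).mono_of_mono_map (show Mono i.left from inferInstance)
  obtain ⟨μ', hμ'⟩ := exists_lift_of_schDominant i D ((fst P P ≫ i) * (snd P P ≫ i)) (μ[H] ≫ f') (by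
    rw [Category.assoc, hf', MonObj.comp_mul, mul_eq_mul, MonObj.mul_comp]
    simp [D, hf'])
  obtain ⟨ι', hι'⟩ := exists_lift_of_schDominant i f' i⁻¹ (GrpObj.inv ≫ f') (by
    rw [Category.assoc, GrpObj.comp_inv, hf', GrpObj.inv_eq_inv, GrpObj.inv_comp, Category.id_comp])
  obtain ⟨str, hi⟩ := GrpSchLib.exists_grpObj_of_mono i (η[H] ≫ f')
    (by rw [Category.assoc, hf', IsMonHom.one_hom]) μ' hμ' ι' hι'
  let _ := str
  have hmon : IsMonHom f' := by
    refine ⟨?_, ?_⟩
    · rw [← cancel_mono i, Category.assoc, hf', IsMonHom.one_hom, IsMonHom.one_hom]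
    · rw [← cancel_mono i, Category.assoc, hf', Category.assoc, IsMonHom.mul_hom (f := i),
        IsMonHom.mul_hom, ← Category.assoc, MonoidalCategory.tensorHom_comp_tensorHom, hf']
  exact ⟨P, str, i, f', hi, hmon, hf', inferInstanceAs (IsClosedImmersion f.left.imageι), f'.left.ker_eq_bot,
    inferInstance, surjective_of_denseRange f' (IsDominant.denseRange (f := f'.left))⟩

end Groth.Agent.SGAHom20
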