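import Groth.Agent.SGAHom20.Conseq
import Groth.Agent.GrpSchLib.ArtinTop

/-!
# Homogeneous spaces: all components have the same dimension
-/

set_option backward.isDefEq.respectTransparency false
set_option backward.isDefEq.respectTransparency.types false

universe u

open CategoryTheory AlgebraicGeometry MonoidalCategory CartesianMonoidalCategory MonObj GrpObj
open Groth.Agent.GrpSchLib (IsMaxPt UniComp bc bcProj exists_isMaxPt left_comp_apply clPt clFib clHomeo)
open scoped CategoryTheory.Obj

noncomputable section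

namespace Groth.Agent.SGAHom20

variable {k : Type u} [Field k] {G X : Over (Spec (CommRingCat.of k))} [GrpObj G]
  [LocallyOfFiniteType G.hom] [LocallyOfFiniteType X.hom] (a : AlgGrp.Action G X)
  (hΦ : Surjective (lift a.act (snd G X)).left)

include hΦ in
theorem height_eq_algClosed [IsAlgClosed k] {c c' : X.left} (hc : IsMaxPt c) (hc' : IsMaxPt c') :
    Order.height c = Order.height c' := by
  have := LocallyOfFiniteType.jacobsonSpace X.hom
  have := LocallyOfFiniteType.jacobsonSpace G.hom
  have hpt : ∀ {W : Over (Spec (CommRingCat.of k))} [LocallyOfFiniteType W.hom] (v : W.left)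
      (_ : IsClosed ({v} : Set W.left)), ∃ p : 𝟙_ _ ⟶ W, p.left (pt₀ k) = v := fun {W} _ v hv => by
    have := LocallyOfFiniteType.jacobsonSpace W.hom
    refine ⟨Over.homMk _ ((pointEquivClosedPoint W.hom).symm ⟨v, hv⟩).2, ?_⟩
    simp only [Over.homMk_left, pointEquivClosedPoint]
    exact pointOfClosedPoint_apply _ _ _ _
  obtain ⟨x, hx, hxc⟩ := nonempty_inter_closedPoints (X := X.left) (Z := closure {c})
    ⟨c, subset_closure rfl⟩ isClosed_closure.isLocallyClosed
  obtain ⟨y, hy, hyc⟩ := nonempty_inter_closedPoints (X := X.left) (Z := closure {c'})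
    ⟨c', subset_closure rfl⟩ isClosed_closure.isLocallyClosed
  obtain ⟨p, hp⟩ := hpt x hxc
  obtain ⟨q, hq⟩ := hpt y hyc
  have := surjective_orbitMap a hΦ p
  obtain ⟨h₀, hh₀⟩ := (a.orbitMap p).left.surjective y
  obtain ⟨h, hh, hhc⟩ := nonempty_inter_closedPoints (X := G.left) (Z := (a.orbitMap p).left ⁻¹' {y})
    ⟨h₀, hh₀⟩ (IsClosed.preimage (a.orbitMap p).left.continuous hyc).isLocallyClosed
  obtain ⟨z, hz⟩ := hpt h hhc
  let τ := transl a z
  have : IsIso τ.hom.left := ((Over.forget _).mapIso τ).isIso_hom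
  have hτ : τ.hom.left x = y := by
    rw [← hp, ← orbitMap_apply_one a p, ← left_comp_apply, ← ltr_orbitMap, left_comp_apply, ltr_apply_one, hz]
    exact hh
  rw [GrpSchLib.height_apply_of_isIntegralHom τ.hom.left c,
    (hc.map τ.hom.left.isOpenEmbedding.generalizingMap).eq (uniComp a hΦ) hc'
      (hτ ▸ (specializes_iff_mem_closure.mpr hx).map τ.hom.left.continuous) (specializes_iff_mem_closure.mpr hy)]

include hΦ in
theorem deg_eq {c c' : X.left} (hc : IsMaxPt c) (hc' : IsMaxPt c') :
    VarDim.deg X.hom c = VarDim.deg X.hom c' := by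
  let K := AlgebraicClosure k
  let φ := algebraMap k K
  have : LocallyOfFiniteType (bc G φ).hom :=
    inferInstanceAs (LocallyOfFiniteType (Limits.pullback.snd G.hom _))
  have : LocallyOfFiniteType (bc X φ).hom :=
    inferInstanceAs (LocallyOfFiniteType (Limits.pullback.snd X.hom _))
  have : IsIntegralHom (Spec.map (CommRingCat.ofHom φ)) :=
    (IsIntegralHom.SpecMap_iff).mpr (algebraMap_isIntegral_iff.mpr inferInstance)
  have : Surjective (Spec.map (CommRingCat.ofHom φ)) := GrpSchLib.surjective_spec_map_field _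
  have hlift : ∀ b : X.left, IsMaxPt b →
      ∃ b' : (bc X φ).left, IsMaxPt b' ∧ Order.height b' = (VarDim.deg X.hom b : ℕ∞) := by
    intro b hb
    obtain ⟨b₁, hb₁⟩ := (bcProj X φ).surjective b
    obtain ⟨b', hb', hb'b⟩ := exists_isMaxPt b₁
    have : bcProj X φ b' = b := hb _ (hb₁ ▸ hb'b.map (bcProj X φ).continuous)
    exact ⟨b', hb', by
      rw [GrpSchLib.height_apply_of_isIntegralHom (bcProj X φ) b', this, VarDim.height_eq_deg X.hom]⟩
  obtain ⟨d, hd, hdc⟩ := hlift c hc
  obtain ⟨d', hd', hdc'⟩ := hlift c' hc'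
  have := height_eq_algClosed (bcAct (Spec.map (CommRingCat.ofHom φ)) a) (surjective_bcAct _ a hΦ) hd hd'
  rw [hdc, hdc'] at this
  exact_mod_cast this

include hΦ in
theorem dim_component_eq (x y : X.left) :
    topologicalKrullDim ↥(connectedComponent x) = topologicalKrullDim ↥(connectedComponent y) := by
  have : IsLocallyNoetherian X.left := LocallyOfFiniteType.isLocallyNoetherian X.hom
  have key : ∀ z : X.left, ∃ c, IsMaxPt c ∧
      topologicalKrullDim ↥(connectedComponent z) = ((VarDim.deg X.hom c : ℕ∞) : WithBot ℕ∞) := fun z => by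
    obtain ⟨c, hc, hcz⟩ := exists_isMaxPt z
    refine ⟨c, hc, ?_⟩
    rw [connectedComponent_eq_closure a hΦ hc hcz,
      VarDim.topologicalKrullDim_set_eq_iSup_deg X.hom isClosed_closure]
    refine le_antisymm (iSup_le fun w => ?_) (le_iSup_of_le ⟨c, subset_closure rfl⟩ le_rfl)
    exact WithBot.coe_le_coe.mpr (Nat.cast_le.mpr
      (VarDim.deg_le_of_specializes X.hom (specializes_iff_mem_closure.mpr w.2)))
  obtain ⟨c, hc, ec⟩ := key x
  obtain ⟨c', hc', ec'⟩ := key y
  rw [ec, ec', deg_eq a hΦ hc hc']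

end Groth.Agent.SGAHom20
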