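import Groth.Agent.SGAHom20.Hull

/-!
# Homogeneous spaces over a field: components, compactness, orbits of the neutral component
-/

set_option backward.isDefEq.respectTransparency false
set_option backward.isDefEq.respectTransparency.types false

universe u

open CategoryTheory AlgebraicGeometry MonoidalCategory CartesianMonoidalCategory MonObj GrpObj
open Groth.Agent.GrpSchLib (IsMaxPt UniComp hull bc bcProj exists_isMaxPt left_comp_apply)
open scoped CategoryTheory.Obj

noncomputable section

namespace Groth.Agent.SGAHom20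

section Components

set_option linter.unusedSectionVars false

variable {T : Type*} [TopologicalSpace T] [T0Space T] [QuasiSober T]

theorem closure_mem_components {c : T} (hc : IsMaxPt c) : closure {c} ∈ irreducibleComponents T := by
  refine ⟨isIrreducible_singleton.closure, fun Z hZ hcZ => ?_⟩
  have hgen := hZ.closure.isGenericPoint_genericPoint isClosed_closure
  have : hZ.closure.genericPoint = c := hc _ (hgen.specializes (subset_closure (hcZ (subset_closure rfl))))
  intro z hz
  rw [← this]
  exact (hgen.specializes (subset_closure hz)).mem_closure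

theorem exists_maxPt_of_components {Z : Set T} (hZ : Z ∈ irreducibleComponents T) :
    ∃ c, IsMaxPt c ∧ closure {c} = Z := by
  have hgen := hZ.1.isGenericPoint_genericPoint (isClosed_of_mem_irreducibleComponents Z hZ)
  exact ⟨_, fun _ hd => Groth.Agent.FDescent.eq_of_specializes_of_mem hZ hgen hd, hgen.def⟩

theorem existsUnique_component (h : UniComp T) (z : T) : ∃! C, C ∈ irreducibleComponents T ∧ z ∈ C := by
  obtain ⟨c, hc, hcz⟩ := exists_isMaxPt z
  refine ⟨closure {c}, ⟨closure_mem_components hc, hcz.mem_closure⟩, ?_⟩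
  rintro C ⟨hC, hzC⟩
  obtain ⟨d, hd, rfl⟩ := exists_maxPt_of_components hC
  rw [hd.eq h hc (specializes_iff_mem_closure.mpr hzC) hcz]

theorem hull_eq_sUnion (V : Set T) (hV : IsOpen V) :
    hull V = ⋃₀ {Z : Set T | Z ∈ irreducibleComponents T ∧ ∃ ξ ∈ V, closure {ξ} = Z} := by
  ext x
  constructor
  · rintro ⟨c, hc, hcx⟩
    obtain ⟨d, hd, hdc⟩ := exists_isMaxPt c
    exact ⟨closure {d}, ⟨closure_mem_components hd, d, hdc.mem_open hV hc, rfl⟩, (hdc.trans hcx).mem_closure⟩
  · rintro ⟨Z, ⟨-, ξ, hξ, rfl⟩, hx⟩
    exact ⟨ξ, hξ, specializes_iff_mem_closure.mpr hx⟩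

end Components

variable {k : Type u} [Field k] {G X : Over (Spec (CommRingCat.of k))} [GrpObj G] (a : AlgGrp.Action G X)
  (hΦ : Surjective (lift a.act (snd G X)).left)
  {g : G.left} (hg : IsMaxPt g) (hge : g ⤳ η[G].left (pt₀ k))

include hg hge

theorem preimage_closure_one {L : Type u} [Field L] (φ : k →+* L) {g' : (bc G φ).left} (hg' : IsMaxPt g')
    (hge' : g' ⤳ η[bc G φ].left (pt₀ L)) : bcProj G φ ⁻¹' closure {g} = closure {g'} := by
  refine subset_antisymm (fun d hd => ?_) ?_
  · obtain ⟨T, j, hj, hjr⟩ := GrpSchLib.exists_over_range_eq (closure {g}) isClosed_closure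
    have := GrpSchLib.geometricallyIrreducible_one hg hge j hjr
    have : IrreducibleSpace ↥(Spec (CommRingCat.of L)) := inferInstanceAs (IrreducibleSpace (PrimeSpectrum L))
    have : IrreducibleSpace (bc T φ).left :=
      inferInstanceAs (IrreducibleSpace ↥(Limits.pullback T.hom (Spec.map (CommRingCat.ofHom φ))))
    have hirr : IsIrreducible (bcProj G φ ⁻¹' closure {g}) := by
      convert (IrreducibleSpace.isIrreducible_univ (bc T φ).left).image
        ((Over.pullback (Spec.map (CommRingCat.ofHom φ))).map j).left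
        (Scheme.Hom.continuous _).continuousOn using 1
      rw [Set.image_univ]
      ext z
      constructor
      · intro hz
        obtain ⟨t, ht⟩ := (hjr.symm ▸ hz : bcProj G φ z ∈ Set.range j.left)
        obtain ⟨w, -, hw⟩ := Scheme.exists_preimage_of_isPullback (isPullback_bcMap j φ) t z ht
        exact ⟨w, hw⟩
      · rintro ⟨w, rfl⟩
        rw [Set.mem_preimage, bc_map_apply, ← hjr]
        exact ⟨_, rfl⟩
    have hgen := hirr.isGenericPoint_genericPoint (isClosed_closure.preimage (bcProj G φ).continuous)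
    have : hirr.genericPoint = g' := hg' _ (hgen.specializes
      (show bcProj G φ g' ∈ closure {g} from bcProj_maxOne φ hg hge hg' hge' ▸ subset_closure rfl))
    rw [← this]
    exact (hgen.specializes hd).mem_closure
  · refine closure_minimal ?_ (isClosed_closure.preimage (bcProj G φ).continuous)
    rw [Set.singleton_subset_iff, Set.mem_preimage, bcProj_maxOne φ hg hge hg' hge']
    exact subset_closure rfl

include hΦ in
/-- The generic point of the component of a rational point is the image of that of the neutral component. -/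
theorem orbitMap_apply_max (q : 𝟙_ _ ⟶ X) {c : X.left} (hc : IsMaxPt c) (hcq : c ⤳ q.left (pt₀ k)) :
    (a.orbitMap q).left g = c := by
  refine hc _ (specializes_iff_mem_closure.mpr ?_)
  refine closure_minimal ?_ isClosed_closure (mem_closure_orbit a hΦ hg hge q hc hcq)
  refine (image_closure_subset_closure_image (a.orbitMap q).left.continuous).trans ?_
  rw [Set.image_singleton]

include hΦ in
theorem preimage_component (q : 𝟙_ _ ⟶ X) {c : X.left} (hc : IsMaxPt c) (hcq : c ⤳ q.left (pt₀ k))
    {L : Type u} [Field L] (φ : k →+* L) {g' : (bc G φ).left} (hg' : IsMaxPt g')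
    (hge' : g' ⤳ η[bc G φ].left (pt₀ L)) :
    bcProj X φ ⁻¹' closure {c} =
      closure {((bcAct (Spec.map (CommRingCat.ofHom φ)) a).orbitMap (bcPt φ q)).left g'} := by
  set f' := ((bcAct (Spec.map (CommRingCat.ofHom φ)) a).orbitMap (bcPt φ q)).left with hf'
  have hsq : IsPullback (bcProj G φ) f' (a.orbitMap q).left (bcProj X φ) := by
    rw [hf', bcPt_orbitMap]
    exact isPullback_bcMap (a.orbitMap q) φ
  have := universallyOpen_bcProj X φ
  refine subset_antisymm (fun d hd => ?_) ?_
  · obtain ⟨d₀, hd₀, hd₀c⟩ := GrpSchLib.bcProj_generalizing φ (specializes_iff_mem_closure.mpr hd : c ⤳ _)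
    obtain ⟨c', hc', hc'd⟩ := exists_isMaxPt d₀
    have hcc : bcProj X φ c' = c := hc _ (hd₀c ▸ hc'd.map (bcProj X φ).continuous)
    have h1 : c' ∈ closure (bcProj X φ ⁻¹' ((a.orbitMap q).left '' closure {g})) := by
      rw [← (bcProj X φ).isOpenMap.preimage_closure_eq_closure_preimage (bcProj X φ).continuous]
      show bcProj X φ c' ∈ closure _
      rw [hcc]
      exact mem_closure_orbit a hΦ hg hge q hc hcq
    have h2 : f' g' ⤳ c' := by
      refine specializes_iff_mem_closure.mpr (closure_minimal ?_ isClosed_closure h1)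
      rintro z ⟨e, he, hez⟩
      obtain ⟨w, hw1, rfl⟩ := Scheme.exists_preimage_of_isPullback hsq e z hez
      have hw : w ∈ closure {g'} := by
        rw [← preimage_closure_one hg hge φ hg' hge', Set.mem_preimage, hw1]
        exact he
      have := image_closure_subset_closure_image f'.continuous ⟨w, hw, rfl⟩
      rwa [Set.image_singleton] at this
    exact ((h2.trans hc'd).trans hd₀).mem_closure
  · refine closure_minimal ?_ (isClosed_closure.preimage (bcProj X φ).continuous)
    rw [Set.singleton_subset_iff, Set.mem_preimage, ← Scheme.Hom.comp_apply, ← hsq.w, Scheme.Hom.comp_apply,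
      bcProj_maxOne φ hg hge hg' hge', orbitMap_apply_max a hΦ hg hge q hc hcq]
    exact subset_closure rfl

theorem isCompact_sat {V : Set X.left} (hVc : IsCompact V) (hVo : IsOpen V) : IsCompact (sat a g V) := by
  obtain ⟨T, j, hj, hjr⟩ := GrpSchLib.exists_over_range_eq (closure {g}) isClosed_closure
  rw [sat_eq_image a j hjr]
  have : CompactSpace T.left := ⟨by
    rw [j.left.isClosedEmbedding.isInducing.isCompact_iff, Set.image_univ, hjr]
    exact GrpSchLib.isCompact_closure_one hg hge⟩
  have : QuasiCompact T.hom := (quasiCompact_iff_compactSpace T.hom).mpr inferInstance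
  have : QuasiCompact (snd T X).left :=
    inferInstanceAs (QuasiCompact (Limits.pullback.snd T.hom X.hom))
  exact ((snd T X).left.isCompact_preimage (U := ⟨V, hVo⟩) hVc).image (((j ▷ X) ≫ a.act).left).continuous

include hΦ in
theorem compactSpace [IrreducibleSpace X.left] : CompactSpace X.left := by
  have hgen := genericPoint_spec X.left
  obtain ⟨V, hV, hxV, -⟩ := exists_isAffineOpen_mem_and_subset
    (show genericPoint X.left ∈ (⊤ : X.left.Opens) from trivial)
  have : hull (V : Set X.left) = Set.univ :=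
    Set.eq_univ_of_forall fun x => ⟨_, hxV, hgen.specializes (Set.mem_univ x)⟩
  refine ⟨?_⟩
  rw [← this, ← sat_eq_hull a hΦ hg hge (V := (V : Set X.left)) V.isOpen]
  exact isCompact_sat a hg hge hV.isCompact V.2

set_option synthInstance.maxHeartbeats 400000 in
include hΦ in
/-- In a quasi-separated homogeneous space the neutral component maps onto the component of a rational
point. -/
theorem image_orbitMap_closure [QuasiSeparatedSpace X.left] (q : 𝟙_ _ ⟶ X) {c : X.left} (hc : IsMaxPt c)
    (hcq : c ⤳ q.left (pt₀ k)) : (a.orbitMap q).left '' closure {g} = closure {c} := by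
  have hfg := orbitMap_apply_max a hΦ hg hge q hc hcq
  refine subset_antisymm ?_ fun y hy => ?_
  · refine (image_closure_subset_closure_image (a.orbitMap q).left.continuous).trans ?_
    rw [Set.image_singleton, hfg]
  obtain ⟨L, _, _, φ, y', hy'⟩ := exists_point y
  let a' := bcAct (Spec.map (CommRingCat.ofHom φ)) a
  have hΦ' := surjective_bcAct (Spec.map (CommRingCat.ofHom φ)) a hΦ
  obtain ⟨g', hg', hge'⟩ := exists_isMaxPt (η[bc G φ].left (pt₀ L))
  obtain ⟨c₁, hc₁, hc₁q⟩ := exists_isMaxPt ((bcPt φ q).left (pt₀ L))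
  obtain ⟨c₂, hc₂, hc₂y⟩ := exists_isMaxPt (y'.left (pt₀ L))
  have hd₁ := orbitMap_apply_max a' hΦ' hg' hge' (bcPt φ q) hc₁ hc₁q
  have hd₂ := orbitMap_apply_max a' hΦ' hg' hge' y' hc₂ hc₂y
  have h12 : c₁ = c₂ := by
    refine hc₁.eq (uniComp a' hΦ') hc₂ ?_ hc₂y
    rw [← hd₁]
    refine specializes_iff_mem_closure.mpr ?_
    rw [← preimage_component a hΦ hg hge q hc hcq φ hg' hge', Set.mem_preimage, hy']
    exact hy
  let f₁ := a'.orbitMap (bcPt φ q)
  let f₂ := a'.orbitMap y'
  obtain ⟨w, hw₁, hw₂⟩ := Scheme.Pullback.exists_preimage_pullback (f := f₁.left) (g := f₂.left) g' g'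
    (by rw [hd₁, hd₂, h12])
  let W : Over (Spec (CommRingCat.of L)) := Over.mk (Limits.pullback.fst f₁.left f₂.left ≫ (bc G φ).hom)
  let p₁ : W ⟶ bc G φ := Over.homMk (Limits.pullback.fst f₁.left f₂.left) rfl
  let p₂ : W ⟶ bc G φ := Over.homMk (Limits.pullback.snd f₁.left f₂.left) (by
    show _ = Limits.pullback.fst f₁.left f₂.left ≫ (bc G φ).hom
    conv_rhs => rw [← Over.w f₁]
    rw [Limits.pullback.condition_assoc, Over.w f₂])
  have hp : p₁ ≫ f₁ = p₂ ≫ f₂ := Over.OverMorphism.ext Limits.pullback.condition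
  let v : W ⟶ bc G φ := p₂⁻¹ * p₁
  have hv : v.left w ∈ closure {g'} := by
    rw [show v = lift (p₂ ≫ GrpObj.inv) p₁ ≫ μ[bc G φ] from rfl, left_comp_apply]
    refine GrpSchLib.mul_mem_closure hg' hge' ⟨?_, ?_⟩
    · rw [Set.mem_preimage, ← left_comp_apply, lift_fst, left_comp_apply,
        show p₂.left w = g' from hw₂]
      exact GrpSchLib.inv_mem_closure hg' hge' (subset_closure rfl)
    · rw [Set.mem_preimage, ← left_comp_apply, lift_snd, show p₁.left w = g' from hw₁]
      exact subset_closure rfl
  have horb : ∀ (p : 𝟙_ _ ⟶ bc X φ) (t : W ⟶ bc G φ),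
      t ≫ a'.orbitMap p = lift t (toUnit W ≫ p) ≫ a'.act := fun p t => by
    show t ≫ lift (𝟙 _) (toUnit _ ≫ p) ≫ a'.act = _
    rw [← Category.assoc, comp_lift, Category.comp_id, ← Category.assoc, comp_toUnit]
  have hvy : v ≫ f₁ = toUnit W ≫ y' := by
    have e := hp
    rw [horb, horb] at e
    rw [horb, show v = p₂⁻¹ * p₁ from rfl, ← GrpSchLib.act_mul, e, GrpSchLib.act_mul, inv_mul_cancel,
      GrpSchLib.act_one]
  refine ⟨bcProj G φ (v.left w), ?_, ?_⟩
  · have : v.left w ∈ bcProj G φ ⁻¹' closure {g} := by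
      rwa [preimage_closure_one hg hge φ hg' hge']
    exact this
  · rw [← bc_map_apply, ← bcPt_orbitMap, ← left_comp_apply, hvy, GrpSchLib.apply_pointSection]
    exact hy'

end Groth.Agent.SGAHom20
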