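import Groth.Agent.GrpSchLib.FieldAllComp
import Groth.Agent.GrpSchLib.FieldDim
import Groth.Agent.GrpSchLib.OrbitImmersion
import Groth.Prelude.Def_AlgGrp

/-!
# Homogeneous spaces under arbitrary group schemes over a field: every point lies on one component
-/

set_option backward.isDefEq.respectTransparency false
set_option backward.isDefEq.respectTransparency.types false

universe u

open CategoryTheory AlgebraicGeometry MonoidalCategory CartesianMonoidalCategory MonObj GrpObj
open Groth.Agent.GrpSchLib (IsMaxPt UniComp bc bcProj exists_isMaxPt left_comp_apply)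
open scoped CategoryTheory.Obj

noncomputable section

namespace Groth.Agent.SGAHom20

section BaseChange

variable {S S' : Scheme.{u}} (c : S' ⟶ S) {G X : Over S} [GrpObj G]

/-- The base change of an action. -/
def bcAct (a : AlgGrp.Action G X) :
    AlgGrp.Action ((Over.pullback c).obj G) ((Over.pullback c).obj X) where
  act := Functor.LaxMonoidal.μ (Over.pullback c) G X ≫ (Over.pullback c).map a.act
  one_act := by
    rw [show η[(Over.pullback c).obj G] = Functor.LaxMonoidal.ε (Over.pullback c) ≫ (Over.pullback c).map η[G] from rfl,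
      comp_whiskerRight, Category.assoc, Functor.LaxMonoidal.μ_natural_left_assoc, ← Functor.map_comp, a.one_act,
      ← Functor.LaxMonoidal.left_unitality]
  mul_act := by
    rw [show μ[(Over.pullback c).obj G] = Functor.LaxMonoidal.μ (Over.pullback c) G G ≫ (Over.pullback c).map μ[G] from rfl,
      comp_whiskerRight, Category.assoc, Functor.LaxMonoidal.μ_natural_left_assoc, ← Functor.map_comp, a.mul_act,
      Functor.map_comp, Functor.LaxMonoidal.associativity_assoc, Functor.map_comp, MonoidalCategory.whiskerLeft_comp_assoc,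
      Functor.LaxMonoidal.μ_natural_right_assoc]

theorem surjective_bcAct (a : AlgGrp.Action G X) (hΦ : Surjective (lift a.act (snd G X)).left) :
    Surjective (lift (bcAct c a).act (snd ((Over.pullback c).obj G) ((Over.pullback c).obj X))).left := by
  let F := Over.pullback c
  let m := Functor.Monoidal.μIso F X X
  have h : lift (bcAct c a).act (snd (F.obj G) (F.obj X)) =
      Functor.LaxMonoidal.μ F G X ≫ F.map (lift a.act (snd G X)) ≫ m.inv := by
    rw [← cancel_mono m.hom, Category.assoc, Category.assoc, Iso.inv_hom_id, Category.comp_id]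
    show lift _ _ ≫ Functor.LaxMonoidal.μ F X X = _
    rw [show (bcAct c a).act = Functor.LaxMonoidal.μ F G X ≫ F.map a.act from rfl,
      ← Functor.Monoidal.μ_snd F G X, ← comp_lift, Category.assoc, Functor.Monoidal.lift_μ]
  have h1 : Surjective (F.map (lift a.act (snd G X))).left :=
    MorphismProperty.overPullbackMap (P := @Surjective) c _ hΦ
  have : IsIso (Functor.LaxMonoidal.μ F G X).left :=
    ((Over.forget _).mapIso (Functor.Monoidal.μIso F G X)).isIso_hom
  have : IsIso m.inv.left := ((Over.forget _).mapIso m).isIso_inv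
  rw [h, Over.comp_left, Over.comp_left]
  infer_instance

end BaseChange

variable {k : Type u} [Field k] {G X : Over (Spec (CommRingCat.of k))} [GrpObj G] (a : AlgGrp.Action G X)
  (hΦ : Surjective (lift a.act (snd G X)).left)

/-- The point of the base. -/
abbrev pt₀ (k : Type u) [Field k] : (Spec (CommRingCat.of k) : Scheme.{u}) := IsLocalRing.closedPoint k

/-- Translation by a rational point. -/
def transl (z : 𝟙_ _ ⟶ G) : X ≅ X where
  hom := lift (toUnit X ≫ z) (𝟙 X) ≫ a.act
  inv := lift (toUnit X ≫ z)⁻¹ (𝟙 X) ≫ a.act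
  hom_inv_id := by
    rw [← Category.assoc, comp_lift, GrpObj.comp_inv, ← Category.assoc (f := _ ≫ a.act), comp_toUnit,
      Category.comp_id, GrpSchLib.act_mul, inv_mul_cancel, GrpSchLib.act_one]
  inv_hom_id := by
    rw [← Category.assoc, comp_lift, ← Category.assoc (f := _ ≫ a.act), comp_toUnit,
      Category.comp_id, GrpSchLib.act_mul, mul_inv_cancel, GrpSchLib.act_one]

theorem transl_apply (z : 𝟙_ _ ⟶ G) (p : 𝟙_ _ ⟶ X) :
    (transl a z).hom.left (p.left (pt₀ k)) = (lift z p ≫ a.act).left (pt₀ k) := by
  rw [← left_comp_apply]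
  congr 2
  rw [show (transl a z).hom = lift (toUnit X ≫ z) (𝟙 X) ≫ a.act from rfl, ← Category.assoc, comp_lift,
    ← Category.assoc, Category.comp_id]
  congr 2
  rw [toUnit_unique (p ≫ toUnit X) (𝟙 _), Category.id_comp]

/-- A rational point above any point of a scheme over an algebraically closed extension. -/
theorem exists_point {W : Over (Spec (CommRingCat.of k))} (v : W.left) :
    ∃ (L : Type u) (_ : Field L) (_ : IsAlgClosed L) (φ : k →+* L)
      (v' : 𝟙_ (Over (Spec (CommRingCat.of L))) ⟶ bc W φ),
      bcProj W φ (v'.left (pt₀ L)) = v :=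
  GrpSchLib.exists_bc_point v

theorem bc_map_apply {W W' : Over (Spec (CommRingCat.of k))} (g : W ⟶ W') {L : Type u} [Field L] (φ : k →+* L)
    (w : (bc W φ).left) :
    bcProj W' φ (((Over.pullback (Spec.map (CommRingCat.ofHom φ))).map g).left w) = g.left (bcProj W φ w) := by
  rw [← Scheme.Hom.comp_apply, ← Scheme.Hom.comp_apply]
  exact congrArg (fun h : (bc W φ).left ⟶ W'.left => h w) (Limits.pullback.lift_fst _ _ _)

include hΦ in
/-- Any two points are, after an extension of fields, rational points related by a translation. -/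
theorem exists_trans (x y : X.left) :
    ∃ (L : Type u) (_ : Field L) (_ : IsAlgClosed L) (φ : k →+* L) (z : 𝟙_ _ ⟶ bc G φ) (p q : 𝟙_ _ ⟶ bc X φ),
      bcProj X φ (p.left (pt₀ L)) = y ∧ bcProj X φ (q.left (pt₀ L)) = x ∧
      lift z p ≫ (bcAct (Spec.map (CommRingCat.ofHom φ)) a).act = q := by
  obtain ⟨w, hw₁, hw₂⟩ := Scheme.Pullback.exists_preimage_pullback (f := X.hom) (g := X.hom) x y
    (@Subsingleton.elim (Spec (CommRingCat.of k)) inferInstance _ _)
  obtain ⟨v, hv⟩ := hΦ.surj w
  obtain ⟨L, _, _, φ, v', hv'⟩ := exists_point (W := G ⊗ X) v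
  let F := Over.pullback (Spec.map (CommRingCat.ofHom φ))
  refine ⟨L, inferInstance, inferInstance, φ, v' ≫ F.map (fst G X), v' ≫ F.map (snd G X),
    v' ≫ F.map a.act, ?_, ?_, ?_⟩
  · rw [left_comp_apply, bc_map_apply, hv', ← hw₂, ← hv]
    rw [show snd G X = lift a.act (snd G X) ≫ snd X X from (lift_snd _ _).symm, left_comp_apply, lift_snd]
    rfl
  · rw [left_comp_apply, bc_map_apply, hv', ← hw₁, ← hv]
    rw [show a.act = lift a.act (snd G X) ≫ fst X X from (lift_fst _ _).symm, left_comp_apply, lift_fst]
    rfl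
  · rw [show (bcAct (Spec.map (CommRingCat.ofHom φ)) a).act =
      Functor.LaxMonoidal.μ F G X ≫ F.map a.act from rfl, ← comp_lift, Category.assoc,
      Functor.Monoidal.lift_μ_assoc]
    simp

/-- The fibre of a base change to an algebraically closed field over a point, seen from the algebraic
closure, is irreducible. -/
theorem specializes_of_over_max {L : Type u} [Field L] [IsAlgClosed L] (φ : k →+* L) {ξ : X.left}
    (hξ : IsMaxPt ξ) {p : (bc X φ).left} (hp : bcProj X φ p = ξ) {d d' : (bc X φ).left}
    (hd : d ⤳ p) (hd' : d' ⤳ p) : ∃ c, c ⤳ d ∧ c ⤳ d' := by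
  let : Algebra k L := φ.toAlgebra
  let ψ : AlgebraicClosure k →ₐ[k] L := IsAlgClosed.lift
  let P : Over (Spec (CommRingCat.of k)) := Over.mk (Spec.map (CommRingCat.ofHom φ))
  let Pb : Over (Spec (CommRingCat.of k)) :=
    Over.mk (Spec.map (CommRingCat.ofHom (algebraMap k (AlgebraicClosure k))))
  let π : P ⟶ Pb := Over.homMk (Spec.map (CommRingCat.ofHom ψ.toRingHom)) (by
    show Spec.map _ ≫ Spec.map _ = Spec.map _
    rw [← Spec.map_comp, ← CommRingCat.ofHom_comp]
    exact congrArg (fun h => Spec.map (CommRingCat.ofHom h)) ψ.comp_algebraMap)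
  let m : (X ⊗ P).left ⟶ (X ⊗ Pb).left := (X ◁ π).left
  let r : (X ⊗ Pb).left ⟶ X.left := (fst X Pb).left
  have hr : ∀ z : (X ⊗ P).left, r (m z) = bcProj X φ z := fun z => by
    show (fst X Pb).left ((X ◁ π).left z) = _
    rw [← left_comp_apply, whiskerLeft_fst]
    rfl
  have : IsIntegralHom Pb.hom :=
    (IsIntegralHom.SpecMap_iff).mpr (algebraMap_isIntegral_iff.mpr inferInstance)
  have : IsIntegralHom r := MorphismProperty.pullback_fst (P := @IsIntegralHom) X.hom Pb.hom ‹_›
  have hover : ∀ e, e ⤳ p → bcProj X φ e = ξ := fun e he => hξ _ (hp ▸ he.map (bcProj X φ).continuous)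
  have key : ∀ e, e ⤳ p → m e = m p := fun e he =>
    GrpSchLib.eq_of_specializes_of_isIntegralHom r (he.map m.continuous) (by rw [hr, hr, hover e he, hp])
  have : IrreducibleSpace P.left := inferInstanceAs (IrreducibleSpace (PrimeSpectrum L))
  have : GeometricallyIrreducible π.left :=
    GrpSchLib.geometricallyIrreducible_of_isAlgClosed (K := AlgebraicClosure k) π.left
  have : UniversallyOpen π.left :=
    inferInstanceAs (UniversallyOpen (Spec.map (CommRingCat.ofHom ψ.toRingHom) :
      Spec (CommRingCat.of L) ⟶ Spec (CommRingCat.of (AlgebraicClosure k))))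
  have hsq : IsPullback m (Over.Hom.left (snd X P)) (Over.Hom.left (snd X Pb)) π.left := by
    refine IsPullback.of_right (h₁₂ := r) (h₂₂ := Pb.hom) (v₁₃ := X.hom) ?_ ?_ ?_
    · have e : m ≫ r = (fst X P).left := by
        show (X ◁ π).left ≫ (fst X Pb).left = _
        rw [← Over.comp_left, whiskerLeft_fst]
      rw [e, Over.w π]
      exact IsPullback.of_hasPullback X.hom P.hom
    · show (X ◁ π).left ≫ (snd X Pb).left = (snd X P).left ≫ π.left
      rw [← Over.comp_left, whiskerLeft_snd, Over.comp_left]
    · exact IsPullback.of_hasPullback X.hom Pb.hom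
  have : GeometricallyIrreducible m := MorphismProperty.of_isPullback (P := @GeometricallyIrreducible) hsq.flip ‹_›
  have : UniversallyOpen m := MorphismProperty.of_isPullback (P := @UniversallyOpen) hsq.flip ‹_›
  have hirr : IsIrreducible (m ⁻¹' {m p}) := m.isIrreducible_preimage m.isOpenMap isIrreducible_singleton
  have hg := hirr.isGenericPoint_genericPoint_closure
  exact ⟨hirr.genericPoint, hg.specializes (subset_closure (key d hd)),
    hg.specializes (subset_closure (key d' hd'))⟩

include hΦ in
/-- Every point of a homogeneous space lies on a single irreducible component. -/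
theorem uniComp : UniComp X.left := by
  intro x b b' hb hb'
  obtain ⟨ξ, hξ, -⟩ := exists_isMaxPt b
  obtain ⟨L, _, _, φ, z, p, q, hp, hq, hpq⟩ := exists_trans a hΦ x ξ
  obtain ⟨d, hd, hdb⟩ := GrpSchLib.bcProj_generalizing φ (hq.symm ▸ hb)
  obtain ⟨d', hd', hdb'⟩ := GrpSchLib.bcProj_generalizing φ (hq.symm ▸ hb')
  let τ := transl (bcAct (Spec.map (CommRingCat.ofHom φ)) a) z
  have hτ : τ.inv.left (q.left (pt₀ L)) = p.left (pt₀ L) := by
    rw [← hpq, ← transl_apply, ← left_comp_apply, Iso.hom_inv_id]
    rfl
  have hd1 : τ.inv.left d ⤳ p.left (pt₀ L) := hτ ▸ hd.map τ.inv.left.continuous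
  have hd2 : τ.inv.left d' ⤳ p.left (pt₀ L) := hτ ▸ hd'.map τ.inv.left.continuous
  obtain ⟨e, he1, he2⟩ := specializes_of_over_max φ hξ hp hd1 hd2
  have hback : ∀ w, τ.hom.left (τ.inv.left w) = w := fun w => by
    rw [← left_comp_apply, Iso.inv_hom_id]
    rfl
  refine ⟨bcProj X φ (τ.hom.left e), hdb ▸ ?_, hdb' ▸ ?_⟩
  · have := (he1.map τ.hom.left.continuous).map (bcProj X φ).continuous
    rwa [hback] at this
  · have := (he2.map τ.hom.left.continuous).map (bcProj X φ).continuous
    rwa [hback] at this

end Groth.Agent.SGAHom20
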