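import Groth.Agent.SGAHom20.Orbit
import Mathlib.Topology.Constructible

/-!
# Homogeneous spaces over a field: saturation of open sets by the neutral component
-/

set_option backward.isDefEq.respectTransparency false
set_option backward.isDefEq.respectTransparency.types false

universe u

open CategoryTheory AlgebraicGeometry MonoidalCategory CartesianMonoidalCategory MonObj GrpObj
open Groth.Agent.GrpSchLib (IsMaxPt UniComp hull bc bcProj exists_isMaxPt left_comp_apply)
open scoped CategoryTheory.Obj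

noncomputable section

namespace Groth.Agent.SGAHom20

/-- Points of the closure of the image of a quasi-compact morphism are specializations of the image. -/
theorem exists_specializes_of_mem_closure {T X : Scheme.{u}} (f : T ⟶ X) [QuasiCompact f] {y : X}
    (hy : y ∈ closure (Set.range f)) : ∃ t, f t ⤳ y := by
  obtain ⟨U, hU, hyU, -⟩ := exists_isAffineOpen_mem_and_subset (show y ∈ (⊤ : X.Opens) from trivial)
  obtain ⟨R, g, hg⟩ := isCompact_iff_exists.mp (f.isCompact_preimage hU.isCompact)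
  let h := IsOpenImmersion.lift hU.fromSpec (g ≫ f) (by
    rw [hU.range_fromSpec]
    rintro _ ⟨r, rfl⟩
    exact hg.subset ⟨r, rfl⟩)
  have hh : h ≫ hU.fromSpec = g ≫ f := IsOpenImmersion.lift_fac _ _ _
  obtain ⟨φ, hφ⟩ := Spec.map_surjective h
  obtain ⟨y₀, rfl⟩ : y ∈ Set.range hU.fromSpec := hU.range_fromSpec.symm ▸ hyU
  have hy₀ : y₀ ∈ closure (Set.range (Spec.map φ)) := by
    have : Set.range (Spec.map φ) = hU.fromSpec ⁻¹' Set.range f := by
      ext z
      constructor
      · rintro ⟨r, rfl⟩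
        exact ⟨g r, by rw [← Scheme.Hom.comp_apply, ← Scheme.Hom.comp_apply, hφ, hh]⟩
      · rintro ⟨t, ht⟩
        obtain ⟨r, hr⟩ : t ∈ Set.range g := by
          rw [hg]
          show f t ∈ U
          rw [ht]
          exact hU.range_fromSpec.subset ⟨z, rfl⟩
        refine ⟨r, hU.fromSpec.isOpenEmbedding.injective ?_⟩
        rw [← Scheme.Hom.comp_apply, hφ, hh, Scheme.Hom.comp_apply, hr, ht]
    rw [this, ← hU.fromSpec.isOpenEmbedding.isOpenMap.preimage_closure_eq_closure_preimage
      hU.fromSpec.continuous]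
    exact hy
  have hy' : RingHom.ker φ.hom ≤ y₀.asIdeal := by
    have : y₀ ∈ closure (Set.range (PrimeSpectrum.comap φ.hom)) := hy₀
    rw [PrimeSpectrum.closure_range_comap] at this
    exact (PrimeSpectrum.mem_zeroLocus _ _).mp this
  have : y₀.asIdeal.IsPrime := PrimeSpectrum.isPrime y₀
  obtain ⟨q, hq, hqy⟩ := Ideal.exists_minimalPrimes_le hy'
  obtain ⟨p, hp, -, hpq⟩ := Ideal.exists_comap_eq_of_mem_minimalPrimes (I := ⊥) φ.hom q
    (by rw [← RingHom.ker_eq_comap_bot]; exact hq)
  have hc : (Spec.map φ ⟨p, hp⟩ : Spec Γ(X, U)) ⤳ y₀ :=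
    (PrimeSpectrum.le_iff_specializes _ _).mp (show p.comap φ.hom ≤ y₀.asIdeal from hpq ▸ hqy)
  refine ⟨g ⟨p, hp⟩, ?_⟩
  rw [← Scheme.Hom.comp_apply, ← hh, ← hφ, Scheme.Hom.comp_apply]
  exact hc.map hU.fromSpec.continuous

variable {k : Type u} [Field k] {G X : Over (Spec (CommRingCat.of k))} [GrpObj G] (a : AlgGrp.Action G X)
  (hΦ : Surjective (lift a.act (snd G X)).left)
  {g : G.left} (hg : IsMaxPt g) (hge : g ⤳ η[G].left (pt₀ k))

/-- The image of the product of the neutral component with an open set. -/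
def sat (g : G.left) (V : Set X.left) : Set X.left :=
  a.act.left '' {z : (G ⊗ X).left | (fst G X).left z ∈ closure {g} ∧ (snd G X).left z ∈ V}

theorem range_whiskerRight {T : Over (Spec (CommRingCat.of k))} (j : T ⟶ G) (hjr : Set.range j.left = closure {g}) :
    Set.range (j ▷ X).left = (fst G X).left ⁻¹' closure {g} := by
  ext z
  constructor
  · rintro ⟨w, rfl⟩
    rw [Set.mem_preimage, ← left_comp_apply, whiskerRight_fst, left_comp_apply, ← hjr]
    exact ⟨_, rfl⟩
  · intro hz
    obtain ⟨t, ht⟩ := (hjr.symm ▸ hz : (fst G X).left z ∈ Set.range j.left)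
    have hsq : IsPullback (j ▷ X).left (fst T X).left (fst G X).left j.left := by
      refine IsPullback.of_right (h₁₂ := (snd G X).left) (h₂₂ := G.hom) (v₁₃ := X.hom) ?_ ?_ ?_
      · have e' : (j ▷ X).left ≫ (snd G X).left = (snd T X).left := by
          rw [← Over.comp_left, whiskerRight_snd]
        rw [e', Over.w j]
        exact (IsPullback.of_hasPullback T.hom X.hom).flip
      · rw [← Over.comp_left, whiskerRight_fst, Over.comp_left]
      · exact (IsPullback.of_hasPullback G.hom X.hom).flip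
    obtain ⟨w, hw, -⟩ := Scheme.exists_preimage_of_isPullback hsq z t ht.symm
    exact ⟨w, hw⟩

theorem sat_eq_image {T : Over (Spec (CommRingCat.of k))} (j : T ⟶ G) (hjr : Set.range j.left = closure {g})
    (V : Set X.left) : sat a g V = ((j ▷ X) ≫ a.act).left '' ((snd T X).left ⁻¹' V) := by
  ext y
  constructor
  · rintro ⟨z, ⟨hz₁, hz₂⟩, rfl⟩
    obtain ⟨w, rfl⟩ : z ∈ Set.range (j ▷ X).left := range_whiskerRight j hjr ▸ hz₁
    refine ⟨w, ?_, rfl⟩
    rw [Set.mem_preimage, ← whiskerRight_snd j X, left_comp_apply]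
    exact hz₂
  · rintro ⟨w, hw, rfl⟩
    refine ⟨(j ▷ X).left w, ⟨(range_whiskerRight j hjr).subset ⟨w, rfl⟩, ?_⟩, rfl⟩
    rw [← left_comp_apply, whiskerRight_snd]
    exact hw

include hg hge

theorem isOpen_sat_and_subset_hull {V : Set X.left} (hV : IsOpen V) :
    IsOpen (sat a g V) ∧ sat a g V ⊆ hull V := by
  obtain ⟨T, j, hj, hjr⟩ := GrpSchLib.exists_over_range_eq (closure {g}) isClosed_closure
  have := GrpSchLib.geometricallyIrreducible_one hg hge j hjr
  let m := ((j ▷ X) ≫ a.act).left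
  have : UniversallyOpen m := by
    let τ := GrpSchLib.OrbitImmersion.transAct a j
    have e : (j ▷ X) ≫ a.act = (β_ T X).hom ≫ τ.hom ≫ fst X T := by
      rw [show τ.hom = lift (lift (snd X T ≫ j) (fst X T) ≫ a.act) (snd X T) from rfl, lift_fst,
        ← Category.assoc]
      congr 1
      apply CartesianMonoidalCategory.hom_ext <;> simp
    have : UniversallyOpen (fst X T).left :=
      MorphismProperty.pullback_fst (P := @UniversallyOpen) X.hom T.hom inferInstance
    have : IsIso τ.hom.left := ((Over.forget _).mapIso τ).isIso_hom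
    have : IsIso (β_ T X).hom.left := ((Over.forget _).mapIso (β_ T X)).isIso_hom
    show UniversallyOpen ((j ▷ X) ≫ a.act).left
    rw [e, Over.comp_left, Over.comp_left]
    infer_instance
  have hrange : Set.range (j ▷ X).left = (fst G X).left ⁻¹' closure {g} := range_whiskerRight j hjr
  have hsat : sat a g V = m '' ((snd T X).left ⁻¹' V) := sat_eq_image a j hjr V
  rw [hsat]
  refine ⟨m.isOpenMap _ (hV.preimage (snd T X).left.continuous), ?_⟩
  rintro _ ⟨w, hw, rfl⟩
  set v := (snd T X).left w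
  have : GeometricallyIrreducible (snd T X).left :=
    inferInstanceAs (GeometricallyIrreducible (Limits.pullback.snd T.hom X.hom))
  have : UniversallyOpen (snd T X).left :=
    inferInstanceAs (UniversallyOpen (Limits.pullback.snd T.hom X.hom))
  have hfib : IsIrreducible ((snd T X).left ⁻¹' {v}) :=
    (snd T X).left.isIrreducible_preimage (snd T X).left.isOpenMap isIrreducible_singleton
  have hW := GrpSchLib.isIrreducible_closure_image m.continuous hfib
  have hgen := hW.isGenericPoint_genericPoint isClosed_closure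
  refine ⟨hW.genericPoint, ?_, hgen.specializes (subset_closure ⟨w, rfl, rfl⟩)⟩
  have h0 : (lift (toUnit X ≫ η[G]) (𝟙 X)).left v ∈ Set.range (j ▷ X).left := by
    rw [hrange, Set.mem_preimage, ← left_comp_apply, lift_fst, GrpSchLib.apply_pointSection]
    exact hge.mem_closure
  obtain ⟨q, hq⟩ := h0
  refine (hgen.specializes (y := v) (subset_closure ⟨q, ?_, ?_⟩)).mem_open hV hw
  · show (snd T X).left q = v
    rw [show (snd T X) = j ▷ X ≫ snd G X by simp, left_comp_apply, hq, ← left_comp_apply, lift_snd]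
    rfl
  · show a.act.left ((j ▷ X).left q) = v
    rw [hq, ← left_comp_apply,
      show lift (toUnit X ≫ η[G]) (𝟙 X) = lift (1 : X ⟶ G) (𝟙 X) by rw [Hom.one_def],
      GrpSchLib.act_one]
    rfl

include hΦ in
theorem hull_subset_sat {V : Set X.left} (hV : IsOpen V) : hull V ⊆ sat a g V := by
  rintro x ⟨c₀, hc₀V, hc₀x⟩
  obtain ⟨c, hc, hcc₀⟩ := exists_isMaxPt c₀
  obtain ⟨L, _, _, φ, x', hx'⟩ := exists_point x
  let F := Over.pullback (Spec.map (CommRingCat.ofHom φ))
  obtain ⟨c₁, hc₁x, hc₁⟩ := GrpSchLib.bcProj_generalizing φ (hx'.symm ▸ hcc₀.trans hc₀x)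
  obtain ⟨c', hc', hc'₁⟩ := exists_isMaxPt c₁
  have hmc : bcProj X φ c' = c := hc _ (hc₁ ▸ hc'₁.map (bcProj X φ).continuous)
  obtain ⟨g', hg', hge'⟩ := exists_isMaxPt (η[bc G φ].left (pt₀ L))
  let a' := bcAct (Spec.map (CommRingCat.ofHom φ)) a
  have hcl := mem_closure_orbit a' (surjective_bcAct _ a hΦ) hg' hge' x' hc' (hc'₁.trans hc₁x)
  obtain ⟨y, hy₁, ⟨h, hh, rfl⟩⟩ := mem_closure_iff.mp hcl _ (hV.preimage (bcProj X φ).continuous)
    (show bcProj X φ c' ∈ V from hmc.symm ▸ hcc₀.mem_open hV hc₀V)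
  let r : bc G φ ⟶ bc G φ ⊗ bc X φ := lift ι[bc G φ] (a'.orbitMap x')
  let μ₀ := Functor.LaxMonoidal.μ F G X
  let m : (bc G φ ⊗ bc X φ).left ⟶ (G ⊗ X).left := μ₀.left ≫ bcProj (G ⊗ X) φ
  have hm : ∀ (W : Over (Spec (CommRingCat.of k))) (f : G ⊗ X ⟶ W) (p : (bc G φ ⊗ bc X φ).left),
      f.left (m p) = bcProj W φ ((μ₀ ≫ F.map f).left p) := fun W f p => by
    rw [left_comp_apply, bc_map_apply]
    rfl
  refine ⟨m (r.left h), ⟨?_, ?_⟩, ?_⟩
  · rw [hm, show μ₀ ≫ F.map (fst G X) = fst _ _ from Functor.Monoidal.μ_fst F G X, ← left_comp_apply, lift_fst]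
    have := image_closure_subset_closure_image (bcProj G φ).continuous
      ⟨_, GrpSchLib.inv_mem_closure hg' hge' hh, rfl⟩
    rwa [Set.image_singleton, bcProj_maxOne φ hg hge hg' hge'] at this
  · rw [hm, show μ₀ ≫ F.map (snd G X) = snd _ _ from Functor.Monoidal.μ_snd F G X, ← left_comp_apply, lift_snd]
    exact hy₁
  · rw [hm, show μ₀ ≫ F.map a.act = a'.act from rfl, ← left_comp_apply]
    have e : r ≫ a'.act = toUnit (bc G φ) ≫ x' := by
      show lift ι[bc G φ] (lift (𝟙 _) (toUnit (bc G φ) ≫ x') ≫ a'.act) ≫ a'.act = _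
      rw [GrpSchLib.act_mul, GrpObj.inv_eq_inv, inv_mul_cancel, GrpSchLib.act_one]
    rw [e, GrpSchLib.apply_pointSection]
    exact hx'

include hΦ in
theorem sat_eq_hull {V : Set X.left} (hV : IsOpen V) : sat a g V = hull V :=
  subset_antisymm (isOpen_sat_and_subset_hull a hg hge hV).2 (hull_subset_sat a hΦ hg hge hV)

include hΦ in
theorem isOpen_hull {V : Set X.left} (hV : IsOpen V) : IsOpen (hull V) :=
  sat_eq_hull a hΦ hg hge hV ▸ (isOpen_sat_and_subset_hull a hg hge hV).1

omit hg hge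

theorem hull_eq_closure {V : X.left.Opens} (hV : IsRetrocompact (V : Set X.left)) :
    hull (V : Set X.left) = closure V := by
  refine subset_antisymm (fun y ⟨c, hc, hcy⟩ => hcy.mem_closed isClosed_closure (subset_closure hc)) fun y hy => ?_
  have : QuasiCompact V.ι := ⟨fun U hUo hUc => by
    rw [V.ι.isOpenEmbedding.isInducing.isCompact_iff, Set.image_preimage_eq_inter_range,
      Scheme.Opens.range_ι, Set.inter_comm]
    exact hV hUc hUo⟩
  obtain ⟨t, ht⟩ := exists_specializes_of_mem_closure V.ι (y := y) (by rwa [Scheme.Opens.range_ι])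
  exact ⟨_, t.2, ht⟩

theorem isRetrocompact_of_isCompact [QuasiSeparatedSpace X.left] {V : Set X.left} (hVo : IsOpen V)
    (hVc : IsCompact V) : IsRetrocompact V :=
  fun _ hU hUo => QuasiSeparatedSpace.inter_isCompact _ _ hVo hVc hUo hU

include hΦ in
/-- In a quasi-separated homogeneous space components are irreducible. -/
theorem connectedComponent_eq_closure [QuasiSeparatedSpace X.left] {c x : X.left} (hc : IsMaxPt c)
    (hcx : c ⤳ x) : connectedComponent x = closure {c} := by
  obtain ⟨g₀, hg₀, hge₀⟩ := exists_isMaxPt (η[G].left (pt₀ k))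
  refine subset_antisymm (fun y hy => ?_)
    (isIrreducible_singleton.closure.isPreirreducible.isPreconnected.subset_connectedComponent
      hcx.mem_closure)
  by_contra hyc
  obtain ⟨cy, hcy, hcyy⟩ := exists_isMaxPt y
  have hx : x ∉ closure {cy} := fun h => hyc <| by
    rw [hc.eq (uniComp a hΦ) hcy hcx (specializes_iff_mem_closure.mpr h)]
    exact hcyy.mem_closure
  obtain ⟨V, hV, hxV, hVs⟩ := exists_isAffineOpen_mem_and_subset
    (U := (⟨(closure {cy})ᶜ, isClosed_closure.isOpen_compl⟩ : X.left.Opens)) hx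
  have hclopen : IsClopen (hull (V : Set X.left)) :=
    ⟨hull_eq_closure (isRetrocompact_of_isCompact V.2 hV.isCompact) ▸ isClosed_closure,
      isOpen_hull a hΦ hg₀ hge₀ V.2⟩
  obtain ⟨d, hdV, hd⟩ := hclopen.connectedComponent_subset ⟨_, hxV, specializes_rfl⟩ hy
  exact hVs hdV (hcy.specializes (uniComp a hΦ) hcyy hd).mem_closure

end Groth.Agent.SGAHom20
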