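import Groth.Agent.SGAHom20.Basic

/-!
# Homogeneous spaces over a field: the neutral component has dense orbits
-/

set_option backward.isDefEq.respectTransparency false
set_option backward.isDefEq.respectTransparency.types false

universe u

open CategoryTheory AlgebraicGeometry MonoidalCategory CartesianMonoidalCategory MonObj GrpObj
open Groth.Agent.GrpSchLib (IsMaxPt UniComp bc bcProj exists_isMaxPt left_comp_apply)
open scoped CategoryTheory.Obj

noncomputable section

namespace Groth.Agent.SGAHom20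

variable {k : Type u} [Field k] {G X : Over (Spec (CommRingCat.of k))} [GrpObj G]

omit [GrpObj G] in
theorem pt_eq (y : (Spec (CommRingCat.of k) : Scheme.{u})) : y = pt₀ k :=
  @Subsingleton.elim (Spec (CommRingCat.of k)) inferInstance _ _

/-- The base change of a rational point. -/
abbrev bcPt {W : Over (Spec (CommRingCat.of k))} {L : Type u} [Field L] (φ : k →+* L) (q : 𝟙_ _ ⟶ W) :
    𝟙_ (Over (Spec (CommRingCat.of L))) ⟶ bc W φ :=
  Functor.LaxMonoidal.ε (Over.pullback (Spec.map (CommRingCat.ofHom φ))) ≫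
    (Over.pullback (Spec.map (CommRingCat.ofHom φ))).map q

omit [GrpObj G] in
theorem bcPt_apply {W : Over (Spec (CommRingCat.of k))} {L : Type u} [Field L] (φ : k →+* L) (q : 𝟙_ _ ⟶ W) :
    bcProj W φ ((bcPt φ q).left (pt₀ L)) = q.left (pt₀ k) := by
  rw [left_comp_apply, bc_map_apply]
  exact congrArg q.left (pt_eq _)

omit [GrpObj G] in
theorem isPullback_bcMap {W W' : Over (Spec (CommRingCat.of k))} (g : W ⟶ W') {L : Type u} [Field L] (φ : k →+* L) :
    IsPullback (bcProj W φ) ((Over.pullback (Spec.map (CommRingCat.ofHom φ))).map g).left g.left (bcProj W' φ) := by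
  refine (IsPullback.of_right ?_ ?_ (IsPullback.of_hasPullback W'.hom (Spec.map (CommRingCat.ofHom φ))).flip).flip
  · have e : ((Over.pullback (Spec.map (CommRingCat.ofHom φ))).map g).left ≫
        Limits.pullback.snd W'.hom (Spec.map (CommRingCat.ofHom φ)) =
        Limits.pullback.snd W.hom (Spec.map (CommRingCat.ofHom φ)) :=
      Over.w ((Over.pullback (Spec.map (CommRingCat.ofHom φ))).map g)
    rw [e, Over.w g]
    exact (IsPullback.of_hasPullback W.hom (Spec.map (CommRingCat.ofHom φ))).flip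
  · exact Limits.pullback.lift_fst _ _ _

omit [GrpObj G] in
theorem universallyOpen_bcProj (W : Over (Spec (CommRingCat.of k))) {L : Type u} [Field L] (φ : k →+* L) :
    UniversallyOpen (bcProj W φ) :=
  MorphismProperty.pullback_fst (P := @UniversallyOpen) W.hom (Spec.map (CommRingCat.ofHom φ)) inferInstance

variable (a : AlgGrp.Action G X) (hΦ : Surjective (lift a.act (snd G X)).left)

theorem bcPt_orbitMap {L : Type u} [Field L] (φ : k →+* L) (q : 𝟙_ _ ⟶ X) :
    (bcAct (Spec.map (CommRingCat.ofHom φ)) a).orbitMap (bcPt φ q) =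
      (Over.pullback (Spec.map (CommRingCat.ofHom φ))).map (a.orbitMap q) := by
  let F := Over.pullback (Spec.map (CommRingCat.ofHom φ))
  have hu : F.map (toUnit G) = toUnit (F.obj G) ≫ Functor.LaxMonoidal.ε F := by
    rw [← cancel_mono (inv (Functor.LaxMonoidal.ε F))]
    exact toUnit_unique _ _
  show lift (𝟙 (F.obj G)) (toUnit (F.obj G) ≫ Functor.LaxMonoidal.ε F ≫ F.map q) ≫
    Functor.LaxMonoidal.μ F G X ≫ F.map a.act = F.map (lift (𝟙 G) (toUnit G ≫ q) ≫ a.act)
  rw [← Category.assoc (toUnit (F.obj G)), ← hu, ← F.map_comp, ← F.map_id, Functor.Monoidal.lift_μ_assoc,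
    ← F.map_comp]

include hΦ in
/-- Orbit maps of rational points are surjective. -/
theorem surjective_orbitMap (q : 𝟙_ _ ⟶ X) : Surjective (a.orbitMap q).left := by
  refine ⟨fun y => ?_⟩
  obtain ⟨w, hw₁, hw₂⟩ := Scheme.Pullback.exists_preimage_pullback (f := X.hom) (g := X.hom) y (q.left (pt₀ k))
    (@Subsingleton.elim (Spec (CommRingCat.of k)) inferInstance _ _)
  obtain ⟨v, hv⟩ := hΦ.surj w
  have hsnd : (snd G X).left v = q.left (pt₀ k) := by
    rw [← lift_snd a.act (snd G X), left_comp_apply, hv]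
    exact hw₂
  have hsq : IsPullback (G ◁ q).left (snd G (𝟙_ _)).left (snd G X).left q.left := by
    refine IsPullback.of_right (h₁₂ := (fst G X).left) (h₂₂ := X.hom) (v₁₃ := G.hom) ?_ ?_ ?_
    · have e : (G ◁ q).left ≫ (fst G X).left = (fst G (𝟙_ _)).left := by
        rw [← Over.comp_left, whiskerLeft_fst]
      rw [e, Over.w q]
      exact IsPullback.of_hasPullback G.hom _
    · rw [← Over.comp_left, whiskerLeft_snd, Over.comp_left]
    · exact IsPullback.of_hasPullback G.hom X.hom
  obtain ⟨p, hp, -⟩ := Scheme.exists_preimage_of_isPullback hsq v (pt₀ k) hsnd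
  refine ⟨(fst G (𝟙_ _)).left p, ?_⟩
  have e : fst G (𝟙_ _) ≫ a.orbitMap q = (G ◁ q) ≫ a.act := by
    show fst G (𝟙_ _) ≫ lift (𝟙 G) (toUnit G ≫ q) ≫ a.act = _
    rw [← Category.assoc]
    congr 1
    apply CartesianMonoidalCategory.hom_ext
    · simp
    · simp [toUnit_unique (toUnit (G ⊗ 𝟙_ (Over (Spec (CommRingCat.of k))))) (snd G (𝟙_ _))]
  rw [← left_comp_apply, e, left_comp_apply, hp, ← lift_fst a.act (snd G X), left_comp_apply, hv]
  exact hw₁

/-- Left translation of the group by a rational point. -/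
def ltr (z : 𝟙_ _ ⟶ G) : G ≅ G where
  hom := (toUnit G ≫ z) * 𝟙 G
  inv := (toUnit G ≫ z)⁻¹ * 𝟙 G
  hom_inv_id := by simp [MonObj.comp_mul, GrpObj.comp_inv]
  inv_hom_id := by simp [MonObj.comp_mul, GrpObj.comp_inv]

theorem ltr_apply_one (z : 𝟙_ _ ⟶ G) :
    (ltr z).hom.left (η[G].left (pt₀ k)) = z.left (pt₀ k) := by
  rw [← left_comp_apply]
  congr 2
  simp [ltr, MonObj.comp_mul, MonObj.one_eq_one]

theorem ltr_orbitMap (z : 𝟙_ _ ⟶ G) (q : 𝟙_ _ ⟶ X) :
    (ltr z).hom ≫ a.orbitMap q = a.orbitMap q ≫ (transl a z).hom := by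
  show ((toUnit G ≫ z) * 𝟙 G) ≫ lift (𝟙 G) (toUnit G ≫ q) ≫ a.act =
    (lift (𝟙 G) (toUnit G ≫ q) ≫ a.act) ≫ lift (toUnit X ≫ z) (𝟙 X) ≫ a.act
  rw [← Category.assoc, comp_lift, Category.comp_id, ← Category.assoc _ (lift (toUnit X ≫ z) _), comp_lift,
    Category.comp_id, ← Category.assoc (f := lift (𝟙 G) (toUnit G ≫ q) ≫ a.act), comp_toUnit,
    ← Category.assoc _ (toUnit G) q, comp_toUnit, GrpSchLib.act_mul]

theorem orbitMap_apply_one (q : 𝟙_ _ ⟶ X) : (a.orbitMap q).left (η[G].left (pt₀ k)) = q.left (pt₀ k) := by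
  rw [← left_comp_apply]
  refine congrArg (fun f : 𝟙_ (Over (Spec (CommRingCat.of k))) ⟶ X => f.left (pt₀ k)) ?_
  show η[G] ≫ lift (𝟙 G) (toUnit G ≫ q) ≫ a.act = q
  rw [← Category.assoc, comp_lift, Category.comp_id, ← Category.assoc, toUnit_unique (η[G] ≫ toUnit G) (𝟙 _),
    Category.id_comp, MonObj.one_eq_one, GrpSchLib.act_one]

theorem bcProj_unit {L : Type u} [Field L] (φ : k →+* L) :
    bcProj G φ (η[bc G φ].left (pt₀ L)) = η[G].left (pt₀ k) := by
  rw [show η[bc G φ] = bcPt φ η[G] from rfl, bcPt_apply]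

/-- The projection of a base change sends the generic point of the neutral component to that point. -/
theorem bcProj_maxOne {L : Type u} [Field L] (φ : k →+* L) {g : G.left} (hg : IsMaxPt g)
    (hge : g ⤳ η[G].left (pt₀ k)) {g' : (bc G φ).left} (hg' : IsMaxPt g')
    (hge' : g' ⤳ η[bc G φ].left (pt₀ L)) : bcProj G φ g' = g :=
  (hg'.map (GrpSchLib.bcProj_generalizing φ)).eq GrpSchLib.uniComp hg
    (bcProj_unit (G := G) φ ▸ hge'.map (bcProj G φ).continuous) hge

include hΦ in
/-- Over an algebraically closed field the orbit of a rational point under the neutral component is dense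
in the component of the point. -/
theorem mem_closure_orbit_algClosed [IsAlgClosed k] {g : G.left} (hg : IsMaxPt g) (hge : g ⤳ η[G].left (pt₀ k))
    (q : 𝟙_ _ ⟶ X) {c : X.left} (hc : IsMaxPt c) (hcq : c ⤳ q.left (pt₀ k)) :
    c ∈ closure ((a.orbitMap q).left '' closure {g}) := by
  obtain ⟨h, hh⟩ := (surjective_orbitMap a hΦ q).surj c
  obtain ⟨ν, hν, hνh⟩ := exists_isMaxPt h
  obtain ⟨L, _, _, φ, h', hh'⟩ := exists_point h
  let F := Over.pullback (Spec.map (CommRingCat.ofHom φ))
  let q' := bcPt φ q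
  let a' := bcAct (Spec.map (CommRingCat.ofHom φ)) a
  let τ := transl a' h'
  have := universallyOpen_bcProj X φ
  have := universallyOpen_bcProj G φ
  -- the component of `h` stays irreducible
  have : IrreducibleSpace ↥(Spec (CommRingCat.of L)) := inferInstanceAs (IrreducibleSpace (PrimeSpectrum L))
  have : GeometricallyIrreducible (Spec.map (CommRingCat.ofHom φ)) :=
    GrpSchLib.geometricallyIrreducible_of_isAlgClosed _
  have : GeometricallyIrreducible (bcProj G φ) :=
    MorphismProperty.pullback_fst (P := @GeometricallyIrreducible) G.hom (Spec.map (CommRingCat.ofHom φ)) ‹_›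
  have hC'irr : IsIrreducible (bcProj G φ ⁻¹' closure {ν}) :=
    (bcProj G φ).isIrreducible_preimage (bcProj G φ).isOpenMap isIrreducible_singleton.closure
  obtain ⟨g', hg', hge'⟩ := exists_isMaxPt (η[bc G φ].left (pt₀ L))
  have : IsIso (ltr h').hom.left := ((Over.forget _).mapIso (ltr h')).isIso_hom
  have hC' : bcProj G φ ⁻¹' closure {ν} ⊆ (ltr h').hom.left '' closure {g'} := by
    intro d hd
    have hgen := hC'irr.isGenericPoint_genericPoint (isClosed_closure.preimage (bcProj G φ).continuous)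
    obtain ⟨ν', hν', hν'le⟩ := exists_isMaxPt hC'irr.genericPoint
    have h1 : ν' ⤳ h'.left (pt₀ L) :=
      hν'le.trans (hgen.specializes (show bcProj G φ (h'.left (pt₀ L)) ∈ closure {ν} from hh'.symm ▸ hνh.mem_closure))
    have h2 : (ltr h').hom.left g' = ν' :=
      (hg'.map (ltr h').hom.left.isOpenEmbedding.generalizingMap).eq GrpSchLib.uniComp hν'
        (ltr_apply_one h' ▸ hge'.map (ltr h').hom.left.continuous) h1
    show d ∈ (ltr h').hom.left.homeomorph '' closure {g'}
    rw [(ltr h').hom.left.homeomorph.image_closure, Set.image_singleton]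
    show d ∈ closure {(ltr h').hom.left g'}
    rw [h2]
    exact (hν'le.trans (hgen.specializes hd)).mem_closure
  let f := (a.orbitMap q).left
  let f' := (a'.orbitMap q').left
  have hsq : IsPullback (bcProj G φ) f' f (bcProj X φ) := by
    show IsPullback _ (a'.orbitMap q').left _ _
    rw [bcPt_orbitMap]
    exact isPullback_bcMap (a.orbitMap q) φ
  -- the translate
  have hτq : bcProj X φ (τ.hom.left (q'.left (pt₀ L))) = c := by
    rw [← orbitMap_apply_one a' q', ← left_comp_apply, ← ltr_orbitMap, left_comp_apply, ltr_apply_one]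
    show bcProj X φ (f' (h'.left (pt₀ L))) = c
    rw [← Scheme.Hom.comp_apply, ← hsq.w, Scheme.Hom.comp_apply, hh', hh]
  obtain ⟨c', hc', hc'q⟩ := exists_isMaxPt (τ.hom.left (q'.left (pt₀ L)))
  have hmc' : bcProj X φ c' = c := hc _ (hτq ▸ hc'q.map (bcProj X φ).continuous)
  have hcS : c ∈ closure (f '' closure {ν}) := subset_closure ⟨h, hνh.mem_closure, hh⟩
  have hc'S : c' ∈ closure (τ.hom.left '' (f' '' closure {g'})) := by
    have h1 : c' ∈ closure (bcProj X φ ⁻¹' (f '' closure {ν})) := by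
      rw [← (bcProj X φ).isOpenMap.preimage_closure_eq_closure_preimage (bcProj X φ).continuous]
      show bcProj X φ c' ∈ closure _
      rw [hmc']
      exact hcS
    refine closure_mono ?_ h1
    rintro x ⟨d, hd, hdx⟩
    obtain ⟨e, he1, he2⟩ := Scheme.exists_preimage_of_isPullback hsq d x hdx
    obtain ⟨e₀, he₀, rfl⟩ := hC' (show bcProj G φ e ∈ closure {ν} from he1 ▸ hd)
    refine ⟨f' e₀, ⟨e₀, he₀, rfl⟩, ?_⟩
    rw [← he2]
    show τ.hom.left ((a'.orbitMap q').left e₀) = (a'.orbitMap q').left ((ltr h').hom.left e₀)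
    rw [← left_comp_apply, ← left_comp_apply, ltr_orbitMap]
  have : IsIso τ.hom.left := ((Over.forget _).mapIso τ).isIso_hom
  have : IsIso τ.inv.left := ((Over.forget _).mapIso τ).isIso_inv
  have hinv : ∀ w, τ.inv.left (τ.hom.left w) = w := fun w => by
    rw [← left_comp_apply, Iso.hom_inv_id]
    rfl
  have hmax : bcProj X φ (τ.inv.left c') = c := by
    refine ((hc'.map τ.inv.left.isOpenEmbedding.generalizingMap).map (GrpSchLib.bcProj_generalizing φ)).eq
      (uniComp a hΦ) hc ?_ hcq
    have := (hc'q.map τ.inv.left.continuous).map (bcProj X φ).continuous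
    rwa [hinv, bcPt_apply] at this
  have h2 : τ.inv.left c' ∈ closure (f' '' closure {g'}) := by
    have := image_closure_subset_closure_image τ.inv.left.continuous ⟨c', hc'S, rfl⟩
    refine closure_mono ?_ this
    rintro _ ⟨_, ⟨w, hw, rfl⟩, rfl⟩
    rw [hinv]
    exact hw
  have h3 := image_closure_subset_closure_image (bcProj X φ).continuous ⟨_, h2, hmax⟩
  refine closure_mono ?_ h3
  rintro _ ⟨_, ⟨e, he, rfl⟩, rfl⟩
  refine ⟨bcProj G φ e, ?_, by rw [← Scheme.Hom.comp_apply, hsq.w, Scheme.Hom.comp_apply]⟩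
  have := image_closure_subset_closure_image (bcProj G φ).continuous ⟨e, he, rfl⟩
  rwa [Set.image_singleton, bcProj_maxOne φ hg hge hg' hge'] at this

include hΦ in
/-- The orbit of a rational point under the neutral component is dense in the component of the point. -/
theorem mem_closure_orbit {g : G.left} (hg : IsMaxPt g) (hge : g ⤳ η[G].left (pt₀ k))
    (q : 𝟙_ _ ⟶ X) {c : X.left} (hc : IsMaxPt c) (hcq : c ⤳ q.left (pt₀ k)) :
    c ∈ closure ((a.orbitMap q).left '' closure {g}) := by
  let φ := algebraMap k (AlgebraicClosure k)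
  let a' := bcAct (Spec.map (CommRingCat.ofHom φ)) a
  obtain ⟨c', hc'q, hmc'⟩ := GrpSchLib.bcProj_generalizing φ (bcPt_apply φ q ▸ hcq)
  obtain ⟨c'', hc'', hc''c⟩ := exists_isMaxPt c'
  have hm : bcProj X φ c'' = c := hc _ (hmc' ▸ hc''c.map (bcProj X φ).continuous)
  obtain ⟨g', hg', hge'⟩ := exists_isMaxPt (η[bc G φ].left (pt₀ (AlgebraicClosure k)))
  have h1 := mem_closure_orbit_algClosed a' (surjective_bcAct _ a hΦ) hg' hge' (bcPt φ q) hc'' (hc''c.trans hc'q)
  have h2 := image_closure_subset_closure_image (bcProj X φ).continuous ⟨_, h1, hm⟩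
  refine closure_mono ?_ h2
  rintro _ ⟨_, ⟨e, he, rfl⟩, rfl⟩
  refine ⟨bcProj G φ e, ?_, ?_⟩
  · have := image_closure_subset_closure_image (bcProj G φ).continuous ⟨e, he, rfl⟩
    rwa [Set.image_singleton, bcProj_maxOne φ hg hge hg' hge'] at this
  · rw [bcPt_orbitMap, ← Scheme.Hom.comp_apply, ← Scheme.Hom.comp_apply, (isPullback_bcMap (a.orbitMap q) φ).w]

end Groth.Agent.SGAHom20
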